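import Cfsg.Agent.H779.G2.Stmts
import Cfsg.Agent.H802.FusEss

/-!
# S5211, (EXT) and (NEXT): extension of automorphisms

`stExt`, `stNExt`.
-/

set_option autoImplicit false

namespace Cfsg.Agent.H758.GT

open Cfsg Cfsg.FusionSystem Cfsg.Agent.H756.PU Cfsg.Agent.H802 Cfsg.Agent.H779.G2

universe u

section

variable {Ω : Type*} [Group Ω] {S : Subgroup Ω}

/-- the property of the maps in `qSystem` -/
def QProp (F : FusionSystem S) (R Q : Subgroup Ω) {P : Subgroup Ω} (φ : P →* Ω) : Prop :=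
  ∀ (R' : Subgroup Ω) (hR' : R' ≤ P), F.IsConj R R' → (R' ≤ Q ∨ ∀ x : R', φ (Subgroup.inclusion hR' x) ∈ Q) →
    R' ≤ Q ∧ ∃ δ ∈ F.autGroup Q, ∀ (x : R') (y : Q), (x : Ω) = y → φ (Subgroup.inclusion hR' x) = (δ y : Q)

/-- The maps of `F` which on `F`-conjugates of `R` (contained in `Q`) are restrictions of elements of `Aut_F(Q)`. -/
def qSystem (F : FusionSystem S) (R Q : Subgroup Ω) (hQS : Q ≤ S) (hQn : S ≤ Subgroup.normalizer (Q : Set Ω)) :
    FusionSystem S where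
  Hom P := {φ | φ ∈ F.Hom P ∧ QProp F R Q φ}
  le_of_mem h := F.le_of_mem h.1
  injective_of_mem h := F.injective_of_mem h.1
  conj_mem := by
    intro P g hP hg
    refine ⟨F.conj_mem hP hg, ?_⟩
    intro R' hR' _ h
    have hgn := hQn hg
    have hle : R' ≤ Q := by
      rcases h with h | h
      · exact h
      · intro x hx
        exact (Subgroup.mem_normalizer_iff.1 hgn x).2 (h ⟨x, hx⟩)
    refine ⟨hle, ?_⟩
    obtain ⟨δ, hδ⟩ := exists_conjAut hgn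
    refine ⟨δ, autInducedBy_le_autGroup F hQS (conj_mem_autInducedBy hg hδ), fun x y hxy => ?_⟩
    rw [hδ y, ← hxy]
    rfl
  comp_mem := by
    rintro P P' φ ψ ⟨hφ, hφ'⟩ ⟨hψ, hψ'⟩ h
    refine ⟨F.comp_mem hφ hψ h, ?_⟩
    intro R' hR' hc hor
    have hR'' : (φ.comp (Subgroup.inclusion hR')).range ≤ P' := by
      rintro _ ⟨x, rfl⟩
      exact h _
    have hc' : F.IsConj R (φ.comp (Subgroup.inclusion hR')).range :=
      isConj_trans hc (isConj_range (restrict_mem hφ hR'))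
    have hQ'' : (φ.comp (Subgroup.inclusion hR')).range ≤ Q := by
      rcases hor with h1 | h1
      · obtain ⟨h2, δ, hδ, he⟩ := hφ' R' hR' hc (Or.inl h1)
        rintro _ ⟨x, rfl⟩
        show φ (Subgroup.inclusion hR' x) ∈ Q
        rw [he x ⟨x, h2 x.2⟩ rfl]
        exact (δ _).2
      · refine (hψ' _ hR'' hc' (Or.inr ?_)).1
        rintro ⟨_, x, rfl⟩
        exact h1 x
    obtain ⟨h2, δ, hδ, he⟩ := hφ' R' hR' hc (Or.inr fun x => hQ'' ⟨x, rfl⟩)
    obtain ⟨-, ε, hε, he'⟩ := hψ' _ hR'' hc' (Or.inl hQ'')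
    refine ⟨h2, ε * δ, (F.autGroup Q).mul_mem hε hδ, fun x y hxy => ?_⟩
    have h3 := he x y hxy
    exact he' ⟨φ (Subgroup.inclusion hR' x), x, rfl⟩ (δ y) h3
  inv_mem := by
    rintro P φ ⟨hφ, hφ'⟩
    obtain ⟨ψ, hψ, hψe⟩ := F.inv_mem hφ
    refine ⟨ψ, ⟨hψ, ?_⟩, hψe⟩
    intro R' hR' hc hor
    have hR'' : (ψ.comp (Subgroup.inclusion hR')).range ≤ P := by
      rintro _ ⟨⟨x, hx⟩, rfl⟩
      obtain ⟨y, rfl⟩ := hR' hx
      show ψ ⟨φ y, _⟩ ∈ P
      rw [hψe y]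
      exact y.2
    have hc' : F.IsConj R (ψ.comp (Subgroup.inclusion hR')).range :=
      isConj_trans hc (isConj_range (restrict_mem hψ hR'))
    have hφψ : ∀ (x : R') (hx : ψ (Subgroup.inclusion hR' x) ∈ P), φ ⟨ψ (Subgroup.inclusion hR' x), hx⟩ = x := by
      rintro ⟨x, hx⟩ hx'
      obtain ⟨y, rfl⟩ := hR' hx
      have h1 : (⟨ψ (Subgroup.inclusion hR' ⟨φ y, hx⟩), hx'⟩ : P) = y := Subtype.ext (hψe y)
      rw [h1]
    have hor' : (ψ.comp (Subgroup.inclusion hR')).range ≤ Q ∨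
        ∀ x : (ψ.comp (Subgroup.inclusion hR')).range, φ (Subgroup.inclusion hR'' x) ∈ Q := by
      rcases hor with h1 | h1
      · right
        rintro ⟨_, x, rfl⟩
        have h2 := hφψ x (hR'' ⟨x, rfl⟩)
        show φ ⟨ψ (Subgroup.inclusion hR' x), _⟩ ∈ Q
        rw [h2]
        exact h1 x.2
      · left
        rintro _ ⟨x, rfl⟩
        exact h1 x
    obtain ⟨h2, δ, hδ, he⟩ := hφ' _ hR'' hc' hor'
    have key : ∀ (x : R') (hx : ψ (Subgroup.inclusion hR' x) ∈ Q),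
        (x : Ω) = (δ ⟨ψ (Subgroup.inclusion hR' x), hx⟩ : Q) := by
      intro x hx
      have h3 := he ⟨ψ (Subgroup.inclusion hR' x), x, rfl⟩ ⟨_, hx⟩ rfl
      rw [← h3]
      exact (hφψ x _).symm
    have hle : R' ≤ Q := by
      intro x hx
      have h4 := key ⟨x, hx⟩ (h2 ⟨⟨x, hx⟩, rfl⟩)
      have h5 : ((⟨x, hx⟩ : R') : Ω) ∈ Q := h4 ▸ (δ _).2
      exact h5
    refine ⟨hle, δ⁻¹, (F.autGroup Q).inv_mem hδ, fun x y hxy => ?_⟩
    have hxQ := h2 ⟨x, rfl⟩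
    have h3 : y = δ ⟨ψ (Subgroup.inclusion hR' x), hxQ⟩ := Subtype.ext (hxy.symm.trans (key x hxQ))
    rw [h3, MulAut.inv_apply_self]

/-- the extension theorem -/
theorem exists_ext {p : ℕ} [Fact p.Prime] [Finite S] (hS : IsPGroup p S) {F : FusionSystem S} (hF : F.IsSaturated p)
    {R Q : Subgroup Ω} (hQS : Q ≤ S) (hQn : S ≤ Subgroup.normalizer (Q : Set Ω))
    (hess : ∀ E, F.IsEssential p E → (∃ R', F.IsConj R R' ∧ R' ≤ E) → E = Q)
    (hinv : ∀ α ∈ F.autGroup S, ∀ x : S, (x : Ω) ∈ Q ↔ ((α x : S) : Ω) ∈ Q)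
    (P : Subgroup Ω) {φ : P →* Ω} (hφ : φ ∈ F.Hom P) : QProp F R Q φ := by
  refine (le_of_essential hS hF (qSystem F R Q hQS hQn) ?_ ?_ P hφ).2
  · intro α hα
    rw [mem_autGroup_iff _ le_rfl]
    refine ⟨(mem_autGroup_iff F le_rfl α).1 hα, ?_⟩
    intro R' hR' _ hor
    have hle : R' ≤ Q := by
      rcases hor with h | h
      · exact h
      · intro x hx
        exact (hinv α hα ⟨x, hR' hx⟩).2 (h ⟨x, hx⟩)
    -- the restriction of `α` to `Q`
    have hα' := (mem_autGroup_iff F le_rfl α).1 hα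
    have hres := restrict_mem hα' hQS
    have hmaps : ∀ x : Q, ((S.subtype.comp α.toMonoidHom).comp (Subgroup.inclusion hQS)) x ∈ Q :=
      fun x => (hinv α hα ⟨x, hQS x.2⟩).1 x.2
    have hfin : Finite Q := finite_of_le hQS
    obtain ⟨δ, hδ, he⟩ := exists_aut hres (range_eq_of_mapsTo hres hmaps)
    refine ⟨hle, δ, hδ, fun x y hxy => ?_⟩
    rw [he y]
    have h1 : Subgroup.inclusion hR' x = Subgroup.inclusion hQS y := Subtype.ext hxy
    show ((α (Subgroup.inclusion hR' x) : S) : Ω) = ((α (Subgroup.inclusion hQS y) : S) : Ω)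
    rw [h1]
  · intro E hE _ α hα
    have hle : E ≤ S := hE.1.1
    rw [mem_autGroup_iff _ hle]
    refine ⟨(mem_autGroup_iff F hle α).1 hα, ?_⟩
    intro R' hR' hc _
    have hEQ := hess E hE ⟨R', hc, hR'⟩
    subst hEQ
    refine ⟨hR', α, hα, fun x y hxy => ?_⟩
    have h1 : Subgroup.inclusion hR' x = y := Subtype.ext hxy
    show ((α (Subgroup.inclusion hR' x) : E) : Ω) = _
    rw [h1]

end

/-- **(EXT)** -/
theorem stExt : StExt.{u} := by
  intro G0 _ _ p _ F hS hF R Q hRQ hess hinv γ hγ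
  have hmem : ∀ α ∈ F.autGroup (⊤ : Subgroup G0), ∀ x : (⊤ : Subgroup G0),
      (x : G0) ∈ Q ↔ ((α x : (⊤ : Subgroup G0)) : G0) ∈ Q := by
    intro α hα x
    have h1 := hinv (MulAut.congr Subgroup.topEquiv α) ⟨α, hα, rfl⟩
    have h2 : ∀ g : G0, MulAut.congr Subgroup.topEquiv α g = ((α ⟨g, Subgroup.mem_top g⟩ : (⊤ : Subgroup G0)) : G0) :=
      fun g => rfl
    have h3 : (MulAut.congr Subgroup.topEquiv α) (x : G0) = ((α x : (⊤ : Subgroup G0)) : G0) := h2 x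
    rw [← h3]
    constructor
    · intro hx
      rw [← h1]
      exact ⟨x, hx, rfl⟩
    · intro hx
      rw [← h1] at hx
      obtain ⟨y, hy, hyx⟩ := hx
      have h4 : y = (x : G0) := (MulAut.congr Subgroup.topEquiv α).injective hyx
      rwa [← h4]
  have hQn : (⊤ : Subgroup G0) ≤ Subgroup.normalizer (Q : Set G0) := by
    intro g _
    have h1 := inn_le_autGroup F (le_refl (⊤ : Subgroup G0)) ⟨(⟨g, Subgroup.mem_top g⟩ : (⊤ : Subgroup G0)), rfl⟩
    rw [Subgroup.mem_normalizer_iff]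
    intro x
    exact hmem _ h1 ⟨x, Subgroup.mem_top x⟩
  have hγ' := (mem_autGroup_iff F le_top γ).1 hγ
  obtain ⟨-, δ, hδ, he⟩ := exists_ext hS hF (R := R) (Q := Q) le_top hQn hess hmem R hγ' R le_rfl
    (isConj_refl F le_top) (Or.inl hRQ)
  exact ⟨δ, hδ, fun x y hxy => (he x y hxy).symm⟩

/-- **(NEXT)** -/
theorem stNExt : StNExt.{u} := by
  intro G0 _ _ p _ F hS hF E hE γ hγ hN
  have hES : E ≤ (⊤ : Subgroup G0) := le_top
  have hrec := isReceptive_of_isFullyNormalized hS hF hE.2.1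
  have hγ' := (mem_autGroup_iff F hES γ).1 hγ
  obtain ⟨ψ, hψ, hψe⟩ := hrec.2 E _ hγ' (range_eq_of_mapsTo hγ' (fun x => (γ x).2))
  have hle : normalizerIn ⊤ E ≤ extender (⊤ : Subgroup G0) E (E.subtype.comp γ.toMonoidHom) := by
    intro g hg
    rw [mem_extender_iff]
    refine ⟨Subgroup.mem_top g, hg.2, ?_⟩
    obtain ⟨β, hβ⟩ := exists_conjAut hg.2
    have h1 := hN β (conj_mem_autInducedBy (Subgroup.mem_top g) hβ)
    obtain ⟨k, hk, hke⟩ := (mem_autInducedBy_iff _ E _).1 h1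
    refine ⟨k, hk, fun x hx => ?_⟩
    have h2 := hke (γ x)
    rw [MulAut.mul_apply, MulAut.mul_apply, MulAut.inv_apply_self] at h2
    show ((γ ⟨g * x * g⁻¹, hx⟩ : E) : G0) = k * ((γ x : E) : G0) * k⁻¹
    rw [← h2]
    have h3 : (⟨g * x * g⁻¹, hx⟩ : E) = β x := Subtype.ext (hβ x).symm
    rw [h3]
  have hEN : E ≤ normalizerIn (⊤ : Subgroup G0) E := le_inf le_top Subgroup.le_normalizer
  have hres := restrict_mem hψ hle
  have hval : ∀ x : E, (ψ.comp (Subgroup.inclusion hle)) ⟨x, hEN x.2⟩ = (γ x : E) := fun x => hψe x x.2 _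
  have hmaps : ∀ x : ↥(normalizerIn (⊤ : Subgroup G0) E), (ψ.comp (Subgroup.inclusion hle)) x ∈
      normalizerIn (⊤ : Subgroup G0) E := by
    rintro ⟨g, hg⟩
    refine ⟨Subgroup.mem_top _, ?_⟩
    obtain ⟨β, hβ⟩ := exists_conjAut hg.2
    refine mem_normalizer_of_aut (α := γ * β * γ⁻¹) fun x => ?_
    obtain ⟨y, rfl⟩ := γ.surjective x
    rw [MulAut.mul_apply, MulAut.mul_apply, MulAut.inv_apply_self, ← hval (β y), ← hval y]
    have h2 : (⟨((β y : E) : G0), hEN (β y).2⟩ : ↥(normalizerIn (⊤ : Subgroup G0) E)) =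
        ⟨g, hg⟩ * ⟨y, hEN y.2⟩ * ⟨g, hg⟩⁻¹ := Subtype.ext (hβ y)
    rw [h2, map_mul, map_mul, map_inv]
  obtain ⟨δ, hδ, he⟩ := exists_aut hres (range_eq_of_mapsTo hres hmaps)
  refine ⟨δ, hδ, fun x y hxy => ?_⟩
  rw [he y, ← hval x]
  congr 1
  exact Subtype.ext hxy.symm

end Cfsg.Agent.H758.GT
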