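import Mathlib
import Cfsg.Prelude.Def_GeometricClasses

/-!
# S5211, StU2P: the geometric maximal subgroups of `Sp₄(p)` contain no regular unipotent element irreducibly
-/

set_option autoImplicit false

namespace Cfsg.Agent.H758.GT

open scoped MatrixGroups Matrix
open Cfsg Cfsg.Geo

universe u

section nil

variable {ι : Type} [Fintype ι] [DecidableEq ι] {F : Type u} [Field F]

/-- four dimensional regular nilpotent matrices -/
theorem exists_cyc {N : Matrix ι ι F} (h : N ^ 3 ≠ 0) : ∃ v : ι → F, N ^ 3 *ᵥ v ≠ 0 := by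
  by_contra hc
  push Not at hc
  apply h
  ext i j
  have := congrFun (hc (Pi.single j 1)) i
  simpa using this

theorem mulVec_pow_succ (N : Matrix ι ι F) (k : ℕ) (v : ι → F) : N *ᵥ (N ^ k *ᵥ v) = N ^ (k + 1) *ᵥ v := by
  rw [Matrix.mulVec_mulVec, pow_succ']

theorem mulVec_pow_pow (N : Matrix ι ι F) (j k : ℕ) (v : ι → F) : N ^ j *ᵥ (N ^ k *ᵥ v) = N ^ (j + k) *ᵥ v := by
  rw [Matrix.mulVec_mulVec, pow_add]

theorem basis4 (hι : Fintype.card ι = 4) {N : Matrix ι ι F} (h4 : N ^ 4 = 0) {v : ι → F} (hv : N ^ 3 *ᵥ v ≠ 0)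
    (w : ι → F) : ∃ a b c d : F, w = a • v + b • (N *ᵥ v) + c • (N ^ 2 *ᵥ v) + d • (N ^ 3 *ᵥ v) := by
  classical
  have h0 : ∀ k : ℕ, 4 ≤ k → N ^ k *ᵥ v = 0 := by
    intro k hk
    obtain ⟨m, rfl⟩ := Nat.exists_eq_add_of_le hk
    rw [pow_add, h4, zero_mul, Matrix.zero_mulVec]
  set e : Fin 4 → (ι → F) := ![v, N *ᵥ v, N ^ 2 *ᵥ v, N ^ 3 *ᵥ v] with he
  have hli : LinearIndependent F e := by
    rw [Fintype.linearIndependent_iff]
    intro g hg
    rw [Fin.sum_univ_four] at hg
    simp only [he, Matrix.cons_val_zero, Matrix.cons_val_one, Matrix.cons_val] at hg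
    have e1 : N *ᵥ v = N ^ 1 *ᵥ v := by rw [pow_one]
    have key : ∀ j : ℕ, g 0 • (N ^ j *ᵥ v) + g 1 • (N ^ (j + 1) *ᵥ v) + g 2 • (N ^ (j + 2) *ᵥ v)
        + g 3 • (N ^ (j + 3) *ᵥ v) = 0 := by
      intro j
      have := congrArg (fun z => N ^ j *ᵥ z) hg
      simp only [Matrix.mulVec_add, Matrix.mulVec_smul, Matrix.mulVec_zero, e1, mulVec_pow_pow] at this
      exact this
    have g0 : g 0 = 0 := by
      have := key 3
      rw [h0 (3 + 1) (by omega), h0 (3 + 2) (by omega), h0 (3 + 3) (by omega)] at this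
      simpa [hv] using this
    have g1 : g 1 = 0 := by
      have := key 2
      rw [g0, h0 (2 + 2) (by omega), h0 (2 + 3) (by omega)] at this
      simpa [hv] using this
    have g2 : g 2 = 0 := by
      have := key 1
      rw [g0, g1, h0 (1 + 3) (by omega)] at this
      simpa [hv] using this
    have g3 : g 3 = 0 := by
      have := key 0
      rw [g0, g1, g2] at this
      simpa [hv] using this
    intro i
    fin_cases i <;> assumption
  have hcard : Fintype.card (Fin 4) = Module.finrank F (ι → F) := by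
    rw [Module.finrank_fintype_fun_eq_card, hι, Fintype.card_fin]
  have hspan := hli.span_eq_top_of_card_eq_finrank hcard
  have hw : w ∈ Submodule.span F (Set.range e) := by rw [hspan]; trivial
  rw [Submodule.mem_span_range_iff_exists_fun] at hw
  obtain ⟨c, hc⟩ := hw
  refine ⟨c 0, c 1, c 2, c 3, ?_⟩
  rw [← hc, Fin.sum_univ_four]
  simp [he]

theorem pow_one_comb {N : Matrix ι ι F} (h4 : N ^ 4 = 0) (v : ι → F) (a b c d : F) :
    N *ᵥ (a • v + b • (N *ᵥ v) + c • (N ^ 2 *ᵥ v) + d • (N ^ 3 *ᵥ v)) =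
      a • (N *ᵥ v) + b • (N ^ 2 *ᵥ v) + c • (N ^ 3 *ᵥ v) := by
  simp only [Matrix.mulVec_add, Matrix.mulVec_smul, mulVec_pow_succ]
  rw [show N *ᵥ (N *ᵥ v) = N ^ 2 *ᵥ v by rw [Matrix.mulVec_mulVec, pow_two], h4, Matrix.zero_mulVec, smul_zero,
    add_zero]

theorem pow_two_comb {N : Matrix ι ι F} (h4 : N ^ 4 = 0) (v : ι → F) (a b c d : F) :
    N ^ 2 *ᵥ (a • v + b • (N *ᵥ v) + c • (N ^ 2 *ᵥ v) + d • (N ^ 3 *ᵥ v)) =
      a • (N ^ 2 *ᵥ v) + b • (N ^ 3 *ᵥ v) := by
  rw [pow_two N, ← Matrix.mulVec_mulVec, ← pow_two, pow_one_comb h4]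
  have := pow_one_comb h4 v 0 a b c
  rw [zero_smul, zero_add, zero_smul, zero_add] at this
  exact this

theorem pow_three_comb {N : Matrix ι ι F} (h4 : N ^ 4 = 0) (v : ι → F) (a b c d : F) :
    N ^ 3 *ᵥ (a • v + b • (N *ᵥ v) + c • (N ^ 2 *ᵥ v) + d • (N ^ 3 *ᵥ v)) = a • (N ^ 3 *ᵥ v) := by
  have := pow_one_comb h4 v 0 0 a b
  rw [zero_smul, zero_add, zero_smul, zero_add, zero_smul, zero_add] at this
  rw [← mulVec_pow_succ N 2 (a • v + b • (N *ᵥ v) + c • (N ^ 2 *ᵥ v) + d • (N ^ 3 *ᵥ v)), pow_two_comb h4, this,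
    zero_add]

theorem ker3 (hι : Fintype.card ι = 4) {N : Matrix ι ι F} (h4 : N ^ 4 = 0) {v : ι → F} (hv : N ^ 3 *ᵥ v ≠ 0)
    {w : ι → F} (hw : N ^ 3 *ᵥ w = 0) :
    ∃ b c d : F, w = b • (N *ᵥ v) + c • (N ^ 2 *ᵥ v) + d • (N ^ 3 *ᵥ v) := by
  obtain ⟨a, b, c, d, rfl⟩ := basis4 hι h4 hv w
  rw [pow_three_comb h4, smul_eq_zero, or_iff_left hv] at hw
  subst hw
  exact ⟨b, c, d, by rw [zero_smul, zero_add]⟩

theorem ker2 (hι : Fintype.card ι = 4) {N : Matrix ι ι F} (h4 : N ^ 4 = 0) {v : ι → F} (hv : N ^ 3 *ᵥ v ≠ 0)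
    {w : ι → F} (hw : N ^ 2 *ᵥ w = 0) : ∃ c d : F, w = c • (N ^ 2 *ᵥ v) + d • (N ^ 3 *ᵥ v) := by
  have hw3 : N ^ 3 *ᵥ w = 0 := by rw [pow_succ' N 2, ← Matrix.mulVec_mulVec, hw, Matrix.mulVec_zero]
  obtain ⟨b, c, d, rfl⟩ := ker3 hι h4 hv hw3
  have h := pow_two_comb h4 v 0 b c d
  rw [zero_smul, zero_add, zero_smul, zero_add, hw, eq_comm, smul_eq_zero, or_iff_left hv] at h
  subst h
  exact ⟨c, d, by rw [zero_smul, zero_add]⟩

theorem ker1 (hι : Fintype.card ι = 4) {N : Matrix ι ι F} (h4 : N ^ 4 = 0) {v : ι → F} (hv : N ^ 3 *ᵥ v ≠ 0)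
    {w : ι → F} (hw : N *ᵥ w = 0) : ∃ d : F, w = d • (N ^ 3 *ᵥ v) := by
  have hw2 : N ^ 2 *ᵥ w = 0 := by rw [pow_succ' N 1, ← Matrix.mulVec_mulVec, pow_one, hw, Matrix.mulVec_zero]
  obtain ⟨c, d, rfl⟩ := ker2 hι h4 hv hw2
  have h := pow_one_comb h4 v 0 0 c d
  rw [zero_smul, zero_add, zero_smul, zero_add, zero_smul, zero_add, hw, zero_add, eq_comm, smul_eq_zero,
    or_iff_left hv] at h
  subst h
  exact ⟨d, by rw [zero_smul, zero_add]⟩

/-- an invariant nonzero subspace contains the socle vector -/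
theorem socle_mem (hι : Fintype.card ι = 4) {N : Matrix ι ι F} (h4 : N ^ 4 = 0) {v : ι → F} (hv : N ^ 3 *ᵥ v ≠ 0)
    {W : Submodule F (ι → F)} (hW : ∀ w ∈ W, N *ᵥ w ∈ W) (h0 : W ≠ ⊥) : N ^ 3 *ᵥ v ∈ W := by
  obtain ⟨w, hw, hw0⟩ := W.exists_mem_ne_zero_of_ne_bot h0
  obtain ⟨a, b, c, d, rfl⟩ := basis4 hι h4 hv w
  have hmem : ∀ r : F, r ≠ 0 → r • (N ^ 3 *ᵥ v) ∈ W → N ^ 3 *ᵥ v ∈ W := by
    intro r hr h
    have := W.smul_mem r⁻¹ h
    rwa [smul_smul, inv_mul_cancel₀ hr, one_smul] at this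
  by_cases ha : a = 0
  · subst ha
    by_cases hb : b = 0
    · subst hb
      by_cases hc : c = 0
      · subst hc
        rw [zero_smul, zero_smul, zero_smul, zero_add, zero_add, zero_add] at hw hw0
        refine hmem d ?_ hw
        rintro rfl
        exact hw0 (zero_smul _ _)
      · have h1 := hW _ hw
        rw [pow_one_comb h4, zero_smul, zero_smul, zero_add, zero_add] at h1
        exact hmem c hc h1
    · have h1 := hW _ (hW _ hw)
      rw [Matrix.mulVec_mulVec, ← pow_two, pow_two_comb h4, zero_smul, zero_add] at h1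
      exact hmem b hb h1
  · have h1 := hW _ (hW _ (hW _ hw))
    rw [Matrix.mulVec_mulVec, Matrix.mulVec_mulVec, ← pow_three', pow_three_comb h4] at h1
    exact hmem a ha h1

/-- a matrix commuting with a regular nilpotent one is congruent to a scalar on the socle -/
theorem comm_socle (hι : Fintype.card ι = 4) {N : Matrix ι ι F} (h4 : N ^ 4 = 0) {v : ι → F}
    (hv : N ^ 3 *ᵥ v ≠ 0) {k : Matrix ι ι F} (hk : k * N = N * k) :
    ∃ c : F, (k - c • (1 : Matrix ι ι F)) *ᵥ (N ^ 3 *ᵥ v) = 0 := by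
  have h1 : N *ᵥ (k *ᵥ (N ^ 3 *ᵥ v)) = 0 := by
    rw [Matrix.mulVec_mulVec, ← hk, ← Matrix.mulVec_mulVec, mulVec_pow_succ, h4, Matrix.zero_mulVec,
      Matrix.mulVec_zero]
  obtain ⟨c, hc⟩ := ker1 hι h4 hv h1
  refine ⟨c, ?_⟩
  rw [Matrix.sub_mulVec, hc, Matrix.smul_mulVec, Matrix.one_mulVec, sub_self]

end nil

/-- `x` is a regular unipotent element of order `p` -/
structure RegUni {ι : Type} [Fintype ι] [DecidableEq ι] {F : Type u} [Field F] (p : ℕ) (x : GL ι F) : Prop where
  pow : x ^ p = 1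
  nil : ((x : Matrix ι ι F) - 1) ^ 4 = 0
  ne : ((x : Matrix ι ι F) - 1) ^ 3 ≠ 0

section ext

variable {ι : Type} [Fintype ι] [DecidableEq ι] {F : Type u} [Field F]

/-- the normalizer of a field of degree two contains no regular unipotent element -/
theorem not_mem_subalgebraNormalizer (hι : Fintype.card ι = 4) [Fintype F] {p : ℕ} (hp : p.Prime) (hp3 : 3 ≤ p)
    (hF : Fintype.card F = p) {x : GL ι F} (hx : RegUni p x) {K : Subalgebra F (Matrix ι ι F)}
    (hK : IsFieldSubalgebra 2 K) : x ∉ subalgebraNormalizer K := by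
  intro hxK
  have : Nonempty ι := Fintype.card_pos_iff.mp (by omega)
  obtain ⟨v, hv⟩ := exists_cyc hx.ne
  -- a non-scalar element
  have hex : ∃ k ∈ K, ∀ c : F, k ≠ c • (1 : Matrix ι ι F) := by
    by_contra hcon
    push Not at hcon
    have hle : Subalgebra.toSubmodule K ≤ Submodule.span F {(1 : Matrix ι ι F)} := by
      intro k hk
      obtain ⟨c, hc⟩ := hcon k hk
      rw [hc]
      exact Submodule.smul_mem _ _ (Submodule.mem_span_singleton_self _)
    have h1 := Submodule.finrank_mono hle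
    have h2 : Module.finrank F (Submodule.span F {(1 : Matrix ι ι F)}) ≤ 1 := finrank_span_le_card _ |>.trans (by simp)
    have h3 : Module.finrank F (Subalgebra.toSubmodule K) = 2 := hK.finrank_eq
    omega
  obtain ⟨k, hk, hkc⟩ := hex
  -- every element of `K` is a combination of `1` and `k`
  have hspan : ∀ y ∈ K, ∃ c u : F, y = c • (1 : Matrix ι ι F) + u • k := by
    have hli : LinearIndependent F ![(1 : Matrix ι ι F), k] := by
      rw [LinearIndependent.pair_iff]
      intro s t h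
      have ht : t = 0 := by
        by_contra ht
        apply hkc (-(t⁻¹ * s))
        have h1 : t • k = -(s • (1 : Matrix ι ι F)) := by
          rw [eq_neg_iff_add_eq_zero, add_comm]
          exact h
        calc k = t⁻¹ • (t • k) := by rw [smul_smul, inv_mul_cancel₀ ht, one_smul]
          _ = -(t⁻¹ * s) • (1 : Matrix ι ι F) := by rw [h1, smul_neg, smul_smul, neg_smul]
      refine ⟨?_, ht⟩
      rw [ht, zero_smul, add_zero, smul_eq_zero] at h
      exact h.resolve_right one_ne_zero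
    have hle : Submodule.span F (Set.range ![(1 : Matrix ι ι F), k]) ≤ Subalgebra.toSubmodule K := by
      rw [Submodule.span_le]
      rintro _ ⟨i, rfl⟩
      fin_cases i
      · exact K.one_mem
      · exact hk
    have heq : Submodule.span F (Set.range ![(1 : Matrix ι ι F), k]) = Subalgebra.toSubmodule K := by
      apply Submodule.eq_of_le_of_finrank_eq hle
      rw [finrank_span_eq_card hli, Fintype.card_fin]
      exact hK.finrank_eq.symm
    intro y hy
    have hy' : y ∈ Submodule.span F (Set.range ![(1 : Matrix ι ι F), k]) := by rw [heq]; exact hy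
    rw [Submodule.mem_span_range_iff_exists_fun] at hy'
    obtain ⟨c, hc⟩ := hy'
    refine ⟨c 0, c 1, ?_⟩
    rw [← hc, Fin.sum_univ_two]
    rfl
  -- `x` acts
  have hconj : ∀ y ∈ K, (x : Matrix ι ι F) * y * ((x⁻¹ : GL ι F) : Matrix ι ι F) ∈ K := fun y hy => (hxK y).mp hy
  obtain ⟨c, u, hcu⟩ := hspan _ (hconj k hk)
  have hiter : ∀ n : ℕ, ∃ c' : F, ((x ^ n : GL ι F) : Matrix ι ι F) * k * (((x ^ n)⁻¹ : GL ι F) : Matrix ι ι F) =
      c' • (1 : Matrix ι ι F) + u ^ n • k := by
    intro n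
    induction n with
    | zero => exact ⟨0, by simp⟩
    | succ n ih =>
      obtain ⟨c', hc'⟩ := ih
      refine ⟨c' + u ^ n * c, ?_⟩
      have e : ((x ^ (n + 1) : GL ι F) : Matrix ι ι F) * k * (((x ^ (n + 1))⁻¹ : GL ι F) : Matrix ι ι F) =
          (x : Matrix ι ι F) * (((x ^ n : GL ι F) : Matrix ι ι F) * k * (((x ^ n)⁻¹ : GL ι F) : Matrix ι ι F)) *
            ((x⁻¹ : GL ι F) : Matrix ι ι F) := by
        rw [pow_succ' x n, mul_inv_rev, Units.val_mul, Units.val_mul]
        simp only [mul_assoc]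
      rw [e, hc', mul_add, add_mul, Matrix.mul_smul, Matrix.smul_mul, mul_one, ← Units.val_mul, mul_inv_cancel,
        Units.val_one, Matrix.mul_smul, Matrix.smul_mul, hcu, smul_add, smul_smul, smul_smul, ← add_assoc, ← add_smul,
        pow_succ]
  have hu : u = 1 := by
    obtain ⟨c', hc'⟩ := hiter p
    rw [hx.pow] at hc'
    have hup : u ^ p = u := by
      rw [← hF]
      exact FiniteField.pow_card u
    rw [hup] at hc'
    by_contra hu1
    have h1u : (1 : F) - u ≠ 0 := sub_ne_zero.mpr (Ne.symm hu1)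
    apply hkc ((1 - u)⁻¹ * c')
    have : (1 - u) • k = c' • (1 : Matrix ι ι F) := by
      rw [sub_smul, one_smul]
      simp only [Units.val_one, inv_one, one_mul, mul_one] at hc'
      rw [sub_eq_iff_eq_add]
      exact hc'
    rw [← smul_smul, ← this, smul_smul, inv_mul_cancel₀ h1u, one_smul]
  have hc : c = 0 := by
    have h1 := congrArg Matrix.trace hcu
    rw [Matrix.trace_mul_comm, ← mul_assoc, ← Units.val_mul, inv_mul_cancel, Units.val_one, one_mul, hu, one_smul,
      Matrix.trace_add, Matrix.trace_smul, Matrix.trace_one, hι] at h1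
    have h2 : c • ((4 : ℕ) : F) = 0 := by
      have := sub_eq_zero.mpr h1.symm
      simpa using this
    rw [smul_eq_mul, mul_eq_zero] at h2
    refine h2.resolve_right ?_
    intro h4
    have : Fact p.Prime := ⟨hp⟩
    have : CharP F p := charP_of_card_eq_prime hF
    rw [CharP.cast_eq_zero_iff F p] at h4
    have := Nat.le_of_dvd (by norm_num) h4
    interval_cases p
    · omega
    · exact absurd hp (by norm_num)
  -- `k` commutes with `x - 1`
  have hcomm : k * ((x : Matrix ι ι F) - 1) = ((x : Matrix ι ι F) - 1) * k := by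
    rw [hc, hu, zero_smul, zero_add, one_smul] at hcu
    have : (x : Matrix ι ι F) * k = k * (x : Matrix ι ι F) := by
      conv_rhs => rw [← hcu]
      rw [mul_assoc, ← Units.val_mul, inv_mul_cancel, Units.val_one, mul_one]
    rw [mul_sub, sub_mul, this, mul_one, one_mul]
  obtain ⟨a, ha⟩ := comm_socle hι hx.nil hv hcomm
  have hka : k - a • (1 : Matrix ι ι F) ∈ K := K.sub_mem hk (K.smul_mem K.one_mem a)
  have hne : k - a • (1 : Matrix ι ι F) ≠ 0 := fun h => hkc a (sub_eq_zero.mp h)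
  obtain ⟨y, hy, hy1⟩ := hK.inv _ hka hne
  rw [hK.comm _ hka _ hy] at hy1
  apply hv
  calc ((x : Matrix ι ι F) - 1) ^ 3 *ᵥ v = (y * (k - a • (1 : Matrix ι ι F))) *ᵥ (((x : Matrix ι ι F) - 1) ^ 3 *ᵥ v) := by
        rw [hy1, Matrix.one_mulVec]
    _ = 0 := by rw [← Matrix.mulVec_mulVec, ha, Matrix.mulVec_zero]

/-- the stabilizer of a decomposition into two subspaces contains no regular unipotent element -/
theorem not_mem_decompositionStabilizer (hι : Fintype.card ι = 4) {p : ℕ} (hp : p.Prime) (hp3 : 3 ≤ p)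
    {x : GL ι F} (hx : RegUni p x) {D : Fin 2 → Submodule F (ι → F)} (hD : IsMDecomposition 2 D) :
    x ∉ decompositionStabilizer D := by
  rintro ⟨σ, hσ⟩
  obtain ⟨v, hv⟩ := exists_cyc hx.ne
  have hpow : ∀ n : ℕ, ∀ i, (D i).map (Matrix.toLin' ((x ^ n : GL ι F) : Matrix ι ι F)) = D ((σ ^ n) i) := by
    intro n
    induction n with
    | zero => intro i; simp
    | succ n ih =>
      intro i
      rw [pow_succ' x n, Units.val_mul, Matrix.toLin'_mul, Submodule.map_comp, ih, hσ, pow_succ' σ n,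
        Equiv.Perm.mul_apply]
  have hodd : Odd p := hp.odd_of_ne_two (by omega)
  have hinj : Function.Injective D := by
    intro i j hij
    by_contra hne
    have h1 := (hD.indep.pairwiseDisjoint hne)
    rw [Function.onFun, hij, disjoint_self] at h1
    have h2 := hD.finrank_eq j
    rw [h1, finrank_bot] at h2
    omega
  have hσp : ∀ i, (σ ^ p) i = i := by
    intro i
    apply hinj
    rw [← hpow p i, hx.pow, Units.val_one, Matrix.toLin'_one, Submodule.map_id]
  have hσ1 : σ = 1 := by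
    have h2 : σ ^ 2 = 1 := by
      have h : ∀ τ : Equiv.Perm (Fin 2), τ ^ 2 = 1 := by decide
      exact h σ
    have hp' : σ ^ p = 1 := Equiv.ext hσp
    obtain ⟨m, hm⟩ := hodd
    rw [hm, pow_succ, pow_mul, h2, one_pow, one_mul] at hp'
    exact hp'
  have hmem : ∀ i, ((x : Matrix ι ι F) - 1) ^ 3 *ᵥ v ∈ D i := by
    intro i
    apply socle_mem hι hx.nil hv
    · intro w hw
      rw [Matrix.sub_mulVec, Matrix.one_mulVec]
      refine (D i).sub_mem ?_ hw
      have h := hσ i
      rw [hσ1, Equiv.Perm.one_apply] at h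
      rw [← h]
      exact ⟨w, hw, Matrix.toLin'_apply _ _⟩
    · intro h
      have h2 := hD.finrank_eq i
      rw [h, finrank_bot] at h2
      omega
  have hdis := hD.indep.pairwiseDisjoint (show (0 : Fin 2) ≠ 1 by decide)
  exact hv (Submodule.disjoint_def.mp hdis _ (hmem 0) (hmem 1))

/-- the normalizer of an absolutely irreducible group of order 32 with centre of order two contains no regular
unipotent element of order `p ≥ 11` -/
theorem not_mem_subgroupNormalizer (hι : Fintype.card ι = 4) {p : ℕ} (hp : p.Prime) (hp3 : 11 ≤ p)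
    {x : GL ι F} (hx : RegUni p x) {R : Subgroup (GL ι F)} (hR : ActsAbsolutelyIrreducibly (matrixSet R))
    (hc : Nat.card R = 32) (hz : Nat.card (Subgroup.center R) = 2) :
    x ∉ subgroupNormalizer R := by
  classical
  intro hxR
  have : Fact p.Prime := ⟨hp⟩
  have hmem : ∀ g : GL ι F, g ∈ R ↔ x * g * x⁻¹ ∈ R := fun g => Subgroup.mem_normalizer_iff.mp hxR g
  -- the automorphism
  have hfin : Finite R := Nat.finite_of_card_ne_zero (by omega)
  let φ : R ≃* R :=
    { toFun := fun r => ⟨x * r * x⁻¹, (hmem r).mp r.2⟩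
      invFun := fun r => ⟨x⁻¹ * r * x, (hmem _).mpr (by
        have : x * (x⁻¹ * (r : GL ι F) * x) * x⁻¹ = r := by group
        rw [this]; exact r.2)⟩
      left_inv := fun r => Subtype.ext (by simp only []; group)
      right_inv := fun r => Subtype.ext (by simp only []; group)
      map_mul' := fun r s => Subtype.ext (by simp only [Subgroup.coe_mul]; group) }
  have hφ : ∀ r : R, ((φ r : R) : GL ι F) = x * r * x⁻¹ := fun r => rfl
  have hφn : ∀ n : ℕ, ∀ r : R, (((φ : R → R)^[n] r : R) : GL ι F) = x ^ n * r * (x ^ n)⁻¹ := by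
    intro n
    induction n with
    | zero => intro r; simp
    | succ n ih =>
      intro r
      rw [Function.iterate_succ_apply', hφ, ih, pow_succ' x n]
      group
  have hφp : (φ : R → R)^[p] = id := by
    funext r
    apply Subtype.ext
    rw [hφn, hx.pow]
    simp
  -- fixed points
  let C : Subgroup R :=
    { carrier := {r | φ r = r}
      mul_mem' := by
        intro a b ha hb
        change φ (a * b) = a * b
        rw [map_mul, show φ a = a from ha, show φ b = b from hb]
      one_mem' := map_one φ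
      inv_mem' := by
        intro a ha
        change φ a⁻¹ = a⁻¹
        rw [map_inv, show φ a = a from ha] }
  have : Fintype R := Fintype.ofFinite R
  have hmod : Nat.card R ≡ Nat.card C [MOD p] := by
    have h := @Equiv.Perm.card_fixedPoints_modEq R _ _ (φ : R → R) p 1 _ (by
      rw [pow_one]
      exact (hom_coe_pow (fun g : Function.End R ↦ g) rfl (fun g h ↦ rfl) (φ : R → R) p).trans hφp)
    rw [Nat.card_eq_fintype_card, Nat.card_eq_fintype_card]
    have e : Fintype.card C = Fintype.card (Function.fixedPoints (φ : R → R)) :=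
      Fintype.card_congr (Equiv.subtypeEquivRight (fun r => Iff.rfl))
    rw [e]
    exact h
  have hdvd : Nat.card C ∣ 32 := by rw [← hc]; exact C.card_subgroup_dvd_card
  have hZC : Subgroup.center R ≤ C := by
    obtain ⟨y, hy1, hy⟩ := (Nat.card_eq_two_iff' (1 : Subgroup.center R)).mp hz
    intro z hzz
    change φ z = z
    by_cases hz1 : z = 1
    · rw [hz1, map_one]
    have hφz : φ z ∈ Subgroup.center R := by
      rw [Subgroup.mem_center_iff] at hzz ⊢
      intro g
      have h := congrArg φ (hzz (φ.symm g))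
      rw [map_mul, map_mul, MulEquiv.apply_symm_apply] at h
      exact h
    have h1 := hy ⟨z, hzz⟩ (fun h => hz1 (congrArg Subtype.val h))
    have h2 := hy ⟨φ z, hφz⟩ (fun h => hz1 ((map_eq_one_iff φ φ.injective).mp (congrArg Subtype.val h)))
    exact congrArg Subtype.val (h2.trans h1.symm)
  have hC2 : 2 ≤ Nat.card C := by
    rw [← hz]
    exact Nat.card_le_card_of_injective _ (Subgroup.inclusion_injective hZC)
  have hCtop : Nat.card C = 32 := by
    rw [hc] at hmod
    obtain ⟨m, hm, hCm⟩ := (Nat.dvd_prime_pow Nat.prime_two).mp (show Nat.card C ∣ 2 ^ 5 from hdvd)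
    rw [hCm] at hmod hC2 ⊢
    have hpd : p ∣ 32 - 2 ^ m := (Nat.modEq_iff_dvd' (by
      calc 2 ^ m ≤ 2 ^ 5 := Nat.pow_le_pow_right (by norm_num) hm
        _ = 32 := by norm_num)).mp hmod.symm
    interval_cases m
    · omega
    · exfalso
      have : p ∣ 2 * (3 * 5) := hpd
      rcases (hp.dvd_mul).mp this with h | h
      · have := Nat.le_of_dvd (by norm_num) h; omega
      · rcases (hp.dvd_mul).mp h with h | h
        · have := Nat.le_of_dvd (by norm_num) h; omega
        · have := Nat.le_of_dvd (by norm_num) h; omega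
    · exfalso
      have : p ∣ 4 * 7 := hpd
      rcases (hp.dvd_mul).mp this with h | h
      · have := Nat.le_of_dvd (by norm_num) h; omega
      · have := Nat.le_of_dvd (by norm_num) h; omega
    · exfalso
      have : p ∣ 4 * 6 := hpd
      rcases (hp.dvd_mul).mp this with h | h
      · have := Nat.le_of_dvd (by norm_num) h; omega
      · have := Nat.le_of_dvd (by norm_num) h; omega
    · exfalso
      have : p ∣ 4 * 4 := hpd
      rcases (hp.dvd_mul).mp this with h | h
      · have := Nat.le_of_dvd (by norm_num) h; omega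
      · have := Nat.le_of_dvd (by norm_num) h; omega
    · norm_num
  have hCt : C = ⊤ := Subgroup.eq_top_of_card_eq _ (by rw [hCtop, hc])
  obtain ⟨c, hcx⟩ := hR.2 (x : Matrix ι ι F) (by
    rintro _ ⟨r, hr, rfl⟩
    have h1 : (⟨r, hr⟩ : R) ∈ C := by rw [hCt]; trivial
    have h2 := congrArg Subtype.val (show φ ⟨r, hr⟩ = ⟨r, hr⟩ from h1)
    rw [hφ] at h2
    have h3 : x * r = r * x := mul_inv_eq_iff_eq_mul.mp h2
    rw [← Units.val_mul, ← Units.val_mul, h3])
  have h4 := hx.nil
  have h3 := hx.ne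
  have : Nonempty ι := Fintype.card_pos_iff.mp (by omega)
  have e : c • (1 : Matrix ι ι F) - 1 = (c - 1) • (1 : Matrix ι ι F) := by rw [sub_smul, one_smul]
  rw [hcx, e, smul_pow, one_pow] at h3 h4
  rw [smul_eq_zero, or_iff_left one_ne_zero] at h4
  have h5 := pow_eq_zero_iff (by norm_num) |>.mp h4
  apply h3
  rw [h5, zero_pow (by norm_num), zero_smul]

/-- no subfield case over the prime field -/
theorem no_subfield_pow {p : ℕ} (hp : p.Prime) [Fintype F] (hF : Fintype.card F = p) (F₀ : Subfield F) {r : ℕ}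
    (hr : r.Prime) : Fintype.card F ≠ Nat.card F₀ ^ r := by
  intro h
  rw [hF] at h
  have := hp
  rw [h] at this
  exact (Nat.Prime.not_prime_pow hr.two_le) this

end ext

/-- `V` is not totally singular -/
theorem not_totallySingular_top {F : Type u} [Field F] : ¬ IsTotallySingularFor (sympForm 2 F) ⊤ := by
  intro h
  have := h (Pi.single (Sum.inr 0) 1) trivial (Pi.single (Sum.inl 0) 1) trivial
  simp [sympForm, Matrix.J] at this

end Cfsg.Agent.H758.GT
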