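import Cfsg.Agent.H758.GT.Cls
import Cfsg.Agent.S5787
import Cfsg.Agent.H103.GT.UTwoP

/-!
# S5211, StU2P: every maximal subgroup of `Sp₄(p)` above an irreducible group with a regular unipotent element is in the
residual class
-/

set_option autoImplicit false

namespace Cfsg.Agent.H758.GT

open scoped MatrixGroups Matrix
open Cfsg Cfsg.Geo

universe u

/-- **(A)** a proper subgroup of `Sp₄(p)`, `p ≥ 11`, irreducible and with a regular unipotent element is contained in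
a maximal subgroup, which is in the residual class -/
theorem residual {F : Type u} [Field F] [Fintype F] {p : ℕ} [Fact p.Prime] (hp : 11 ≤ p)
    (hF : Fintype.card F = p) (L : Subgroup (GL (Fin 2 ⊕ Fin 2) F)) (hL : L ≤ Cfsg.spGL 2 F)
    (hne : L ≠ Cfsg.spGL 2 F) (x : GL (Fin 2 ⊕ Fin 2) F) (hx : x ∈ L) (hr : RegUni p x)
    (hirr : ∀ W : Submodule F (Fin 2 ⊕ Fin 2 → F),
      (∀ g ∈ L, ∀ v ∈ W, (g : Matrix (Fin 2 ⊕ Fin 2) (Fin 2 ⊕ Fin 2) F) *ᵥ v ∈ W) → W = ⊥ ∨ W = ⊤) :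
    ∃ H, Cfsg.Geo.IsMaximalIn (Cfsg.spGL 2 F) H ∧ L ≤ H ∧ Cfsg.Geo.InSymplecticResidualClass H := by
  classical
  have hpp : p.Prime := Fact.out
  have hfin : Finite (GL (Fin 2 ⊕ Fin 2) F) := inferInstance
  -- a maximal subgroup
  obtain ⟨H, hH, hLH⟩ : ∃ H, Cfsg.Geo.IsMaximalIn (Cfsg.spGL 2 F) H ∧ L ≤ H := by
    let S : Set (Subgroup (GL (Fin 2 ⊕ Fin 2) F)) := {M | L ≤ M ∧ M < Cfsg.spGL 2 F}
    have hS : S.Finite := Set.toFinite S
    have hSne : S.Nonempty := ⟨L, le_rfl, lt_of_le_of_ne hL hne⟩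
    obtain ⟨M, hM⟩ := hS.exists_maximal hSne
    refine ⟨M, ⟨hM.1.2, fun M' h1 h2 => ?_⟩, hM.1.1⟩
    by_cases h3 : M' = Cfsg.spGL 2 F
    · exact Or.inr h3
    · left
      exact le_antisymm (hM.2 ⟨hM.1.1.trans h1, lt_of_le_of_ne h2 h3⟩ h1) h1
  refine ⟨H, hH, hLH, ?_⟩
  have hodd : Odd (Fintype.card F) := by rw [hF]; exact hpp.odd_of_ne_two (by omega)
  have hι : Fintype.card (Fin 2 ⊕ Fin 2) = 4 := rfl
  rcases Cfsg.Agent.S5787.result hodd H hH with ⟨W, h0, hts, rfl⟩ | ⟨D, hD, rfl⟩ | ⟨_, D, hD, _, rfl⟩ |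
    ⟨K, hK, _, _, rfl⟩ | ⟨_, K, hK, _, _, rfl⟩ | ⟨F₀, r, P, ζ, hrp, hcard, _⟩ |
    ⟨q, R, _, _, _, hR, _, hc, hz, _, rfl⟩ | h
  · exfalso
    rcases hirr W (fun g hg v hv => ((hLH hg).1 v).mp hv) with h | h
    · exact h0 h
    · exact not_totallySingular_top (h ▸ hts)
  · exact absurd (hLH hx).1 (not_mem_decompositionStabilizer hι hpp (by omega) hr hD.decomp)
  · exact absurd (hLH hx).1 (not_mem_decompositionStabilizer hι hpp (by omega) hr hD)
  · exact absurd (hLH hx).1 (not_mem_subalgebraNormalizer hι hpp (by omega) hF hr hK)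
  · exact absurd (hLH hx).1 (not_mem_subalgebraNormalizer hι hpp (by omega) hF hr hK)
  · exact absurd hcard (no_subfield_pow hpp hF F₀ hrp)
  · exact absurd (hLH hx).1 (not_mem_subgroupNormalizer hι hpp hp hr hR hc hz)
  · exact h

/-- **(A)** in the form of `H103/GT/UTwoP.lean` -/
theorem stRes : Cfsg.Agent.H103.GT.StRes.{u} := by
  intro F _ _ p _ hp hF L hL hne x hx h1 h2 h3 hirr
  exact residual hp hF L hL hne x hx ⟨h1, h2, h3⟩ hirr

end Cfsg.Agent.H758.GT
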